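import Mathlib.Data.Nat.Choose.Lucas
import Mathlib.Algebra.Polynomial.Taylor
import Mathlib.Algebra.CharP.Basic
import Mathlib.Algebra.Polynomial.Degree.Lemmas
import Mathlib.LinearAlgebra.Matrix.Block

namespace Groth.Agent.CartManLib

open Polynomial Finset

universe u

variable {k : Type u} [Field k]

theorem coeff_comp_X_add_C (h : k[X]) (N : ℕ) (hN : h.natDegree < N) (α : k) (n : ℕ) :
    (h.comp (X + C α)).coeff n = ∑ m ∈ range N, ((m.choose n : ℕ) : k) * h.coeff m * α ^ (m - n) := by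
  rw [← taylor_apply, taylor_coeff, hasseDeriv_apply,
    Polynomial.sum_over_range' (p := h) (h := fun _ => by simp) N hN, eval_finsetSum]
  exact Finset.sum_congr rfl fun m _ => by rw [eval_monomial]

theorem choose_lucas (p : ℕ) [Fact p.Prime] [CharP k p] (a b r s : ℕ) (hr : r < p) (hs : s < p) :
    (((a * p + r).choose (b * p + s) : ℕ) : k) =
      ((a.choose b : ℕ) : k) * ((r.choose s : ℕ) : k) := by
  have h : (a * p + r).choose (b * p + s) ≡
      ((a * p + r) % p).choose ((b * p + s) % p) * ((a * p + r) / p).choose ((b * p + s) / p)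
        [MOD p] := Choose.choose_modEq_choose_mod_mul_choose_div_nat
  rw [Nat.mul_add_mod', Nat.mul_add_mod', Nat.mod_eq_of_lt hr, Nat.mod_eq_of_lt hs,
    mul_comm a p, mul_comm b p, Nat.mul_add_div (Fact.out : p.Prime).pos,
    Nat.mul_add_div (Fact.out : p.Prime).pos, Nat.div_eq_of_lt hr, Nat.div_eq_of_lt hs,
    Nat.add_zero, Nat.add_zero] at h
  rw [mul_comm a p, mul_comm b p, (CharP.natCast_eq_natCast k p).mpr h, Nat.cast_mul, mul_comm]

/-- Translation formula for the coefficients `(i+1)p - (j+1)`. -/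
theorem coeff_translate (p : ℕ) [Fact p.Prime] [CharP k p] (g : ℕ) (hg : g ≤ p) (h : k[X])
    (hh : h.natDegree ≤ (p - 1) * (g + 1)) (α : k) (i j : Fin g) :
    (h.comp (X + C α)).coeff (((i : ℕ) + 1) * p - ((j : ℕ) + 1)) =
      ∑ J : Fin g, ∑ I : Fin g, (((I : ℕ).choose i : ℕ) : k) * α ^ (((I : ℕ) - i) * p) *
        h.coeff (((I : ℕ) + 1) * p - ((J : ℕ) + 1)) *
        ((((p - ((J : ℕ) + 1)).choose (p - ((j : ℕ) + 1)) : ℕ) : k) * α ^ ((j : ℕ) - (J : ℕ))) := by
  classical
  have hp : 2 ≤ p := (Fact.out : p.Prime).two_le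
  set e : Fin g × Fin g → ℕ := fun x => (x.2 : ℕ) * p + (p - ((x.1 : ℕ) + 1)) with he
  have heq : ∀ (a : ℕ) (b : Fin g), (a + 1) * p - ((b : ℕ) + 1) = a * p + (p - ((b : ℕ) + 1)) := by
    intro a b; have := b.isLt; rw [Nat.add_mul, one_mul]; omega
  have hdiv : ∀ (a : ℕ) (r : ℕ), r < p → (a * p + r) / p = a := by
    intro a r hr
    rw [mul_comm a p, Nat.mul_add_div (by omega), Nat.div_eq_of_lt hr, Nat.add_zero]
  have hinj : Function.Injective e := by
    rintro ⟨J, I⟩ ⟨J', I'⟩ hEq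
    have h1 := congrArg (· % p) hEq
    have h2 := congrArg (· / p) hEq
    simp only [he] at h1 h2
    have hJ := J.isLt; have hJ' := J'.isLt
    rw [Nat.mul_add_mod', Nat.mul_add_mod', Nat.mod_eq_of_lt (by omega),
      Nat.mod_eq_of_lt (by omega)] at h1
    rw [hdiv _ _ (by omega), hdiv _ _ (by omega)] at h2
    exact Prod.ext (Fin.ext (by show (J : ℕ) = J'; omega)) (Fin.ext h2)
  set N := (g + 1) * p with hN
  have hb : (p - 1) * (g + 1) + (g + 1) = N := by
    rw [hN, mul_comm (g + 1) p, ← Nat.succ_mul, Nat.succ_eq_add_one, Nat.sub_add_cancel (by omega)]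
  rw [coeff_comp_X_add_C h N (by omega) α, heq]
  have hsub : (univ : Finset (Fin g × Fin g)).image e ⊆ range N := by
    intro m hm
    obtain ⟨⟨J, I⟩, -, rfl⟩ := mem_image.mp hm
    have hI : ((I : ℕ) + 1) * p ≤ g * p := Nat.mul_le_mul_right p I.isLt
    rw [Nat.add_mul, one_mul] at hI
    simp only [he, mem_range, hN, Nat.add_mul, one_mul]
    have := J.isLt
    omega
  have hjp := j.isLt
  rw [← Finset.sum_subset hsub, sum_image fun x _ y _ hxy => hinj hxy, Fintype.sum_prod_type]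
  · refine Finset.sum_congr rfl fun J _ => Finset.sum_congr rfl fun I _ => ?_
    have hJ := J.isLt
    simp only [he, ← heq]
    rw [heq, heq, choose_lucas p _ _ _ _ (by omega) (by omega)]
    rcases lt_or_ge (I : ℕ) (i : ℕ) with h1 | h1
    · simp [Nat.choose_eq_zero_of_lt h1]
    rcases lt_or_ge (j : ℕ) (J : ℕ) with h2 | h2
    · simp [Nat.choose_eq_zero_of_lt (show p - ((J : ℕ) + 1) < p - ((j : ℕ) + 1) by omega)]
    have hexp : (I : ℕ) * p + (p - ((J : ℕ) + 1)) - ((i : ℕ) * p + (p - ((j : ℕ) + 1))) =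
        ((I : ℕ) - i) * p + ((j : ℕ) - J) := by
      have : (i : ℕ) * p ≤ (I : ℕ) * p := Nat.mul_le_mul_right p h1
      rw [Nat.sub_mul]; omega
    rw [hexp, pow_add]
    ring
  · intro m hm hnot
    by_contra hT
    obtain ⟨hC, hcoef⟩ : ((m.choose ((i : ℕ) * p + (p - ((j : ℕ) + 1))) : ℕ) : k) ≠ 0 ∧
        h.coeff m ≠ 0 := ⟨fun h0 => hT (by rw [h0, zero_mul, zero_mul]),
          fun h0 => hT (by rw [h0, mul_zero, zero_mul])⟩
    have hm' : m ≤ (p - 1) * (g + 1) := (Polynomial.le_natDegree_of_ne_zero hcoef).trans hh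
    have hr : m % p < p := Nat.mod_lt _ (by omega)
    have hmeq : m / p * p + m % p = m := Nat.div_add_mod' m p
    rw [← hmeq, choose_lucas p _ _ _ _ hr (by omega)] at hC
    have h2 : p - ((j : ℕ) + 1) ≤ m % p := by
      by_contra h0
      exact hC (by simp [Nat.choose_eq_zero_of_lt (Nat.lt_of_not_le h0)])
    have hI : m / p < g := by
      by_contra h0
      have h3 : g * p ≤ m / p * p := Nat.mul_le_mul_right p (Nat.le_of_not_lt h0)
      rw [hN, Nat.add_mul, one_mul] at hb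
      omega
    refine hnot (mem_image.mpr ⟨(⟨p - 1 - m % p, by omega⟩, ⟨m / p, hI⟩), mem_univ _, ?_⟩)
    simp only [he]
    omega

theorem natDegree_pow_half {p : ℕ} (hp : Odd p) {g : ℕ} {f : k[X]} (hf : f.natDegree ≤ 2 * g + 2) :
    (f ^ ((p - 1) / 2)).natDegree ≤ (p - 1) * (g + 1) := by
  refine (Polynomial.natDegree_pow_le).trans ((Nat.mul_le_mul_left _ hf).trans ?_)
  obtain ⟨t, rfl⟩ := hp
  simp only [Nat.add_sub_cancel, Nat.mul_div_cancel_left t (show 0 < 2 by omega)]
  exact le_of_eq (by ring)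

end Groth.Agent.CartManLib
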